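import Cfsg.Agent.H118.L34.PL
import Cfsg.Agent.H904.L34.Rep

/-!
# S5917 (D2): tools for subquotients (helper360)

* `fx_orth`, `fx_sup`, `dims_orth`, `dims_sup` : the fixed spaces of elements of odd order on `W^⊥`, on direct sums;
* `sq` : the representation on the type `X / A`; `dims_sq`, `ct_sq`;
* `DD` : the elements of `X` fixed modulo `A`; `finrank_DD`, `finrank_VE_DD`.
-/

set_option autoImplicit false
set_option linter.unusedSectionVars false

namespace Cfsg.Agent.H360.L34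

open Matrix Cfsg.Agent.H691.L34 Cfsg.Agent.H118.L34 Module
open Cfsg.Agent.H943.RepAdd (subRep quotRep)
open Cfsg.Agent.H904.L34 (VE mem_VE av av_mem av_sub_mem finrank_map_add odd_smul)

variable {F : Type} [Field F] {V : Type} [AddCommGroup V] [Module (ZMod 2) V] [Module.Finite (ZMod 2) V]
  {ρ : Representation (ZMod 2) (G3 F) V}

/-! ### orthogonal complements -/

section orth

variable {B : LinearMap.BilinForm (ZMod 2) V}

theorem B_sum (hi : ∀ g x y, B (ρ g x) (ρ g y) = B x y) {g : G3 F} {n : ℕ} (hn : Odd n) {x w : V} (hw : ρ g w = w) :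
    B (∑ i ∈ Finset.range n, ρ (g ^ i) x) w = B x w := by
  have h1 : ∀ i : ℕ, ρ (g ^ i) w = w := by
    intro i
    induction i with
    | zero => rw [pow_zero, map_one]; rfl
    | succ i ih => rw [pow_succ, map_mul, Module.End.mul_apply, hw, ih]
  rw [map_sum, LinearMap.sum_apply]
  have h2 : ∀ i ∈ Finset.range n, B (ρ (g ^ i) x) w = B x w := by
    intro i _
    conv_lhs => rw [← h1 i]
    exact hi _ _ _
  rw [Finset.sum_congr rfl h2, Finset.sum_const, Finset.card_range, odd_smul hn]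

theorem fixed_sum {g : G3 F} {n : ℕ} (hn : Odd n) {w : V} (hw : ρ g w = w) :
    ∑ i ∈ Finset.range n, ρ (g ^ i) w = w := by
  have h1 : ∀ i ∈ Finset.range n, ρ (g ^ i) w = w := by
    intro i _
    induction i with
    | zero => rw [pow_zero, map_one]; rfl
    | succ i ih =>
      rw [pow_succ, map_mul, Module.End.mul_apply, hw]
      rename_i hlt
      exact ih (Finset.mem_range.2 (Nat.lt_of_succ_lt (Finset.mem_range.1 hlt)))
  rw [Finset.sum_congr rfl h1, Finset.sum_const, Finset.card_range, odd_smul hn]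

/-- the fixed spaces of an element of odd order on `W^⊥` -/
theorem fx_orth (hB : B.Nondegenerate) (hs : ∀ x y, B x y = B y x) (hi : ∀ g x y, B (ρ g x) (ρ g y) = B x y)
    {W : Submodule (ZMod 2) V} (hW : Inv ρ W) {g : G3 F} {n : ℕ} (hn : Odd n) (hg : g ^ n = 1) :
    finrank (ZMod 2) (fx ρ g (B.orthogonal W)) + finrank (ZMod 2) (fx ρ g W) =
      finrank (ZMod 2) (fx ρ g (⊤ : Submodule (ZMod 2) V)) := by
  let T : Submodule (ZMod 2) V := fx ρ g ⊤
  let A : Submodule (ZMod 2) V := fx ρ g W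
  let θ : T →ₗ[ZMod 2] Dual (ZMod 2) A :=
    ((LinearMap.lcomp (ZMod 2) (ZMod 2) A.subtype).comp (B : V →ₗ[ZMod 2] V →ₗ[ZMod 2] ZMod 2)).domRestrict T
  have hθ : ∀ (x : T) (w : A), θ x w = B (x : V) (w : V) := fun x w => rfl
  have hsurj : LinearMap.range θ = ⊤ := by
    rw [eq_top_iff]
    intro f _
    obtain ⟨f', hf'⟩ := LinearMap.exists_extend (p := A) f
    let x0 : V := (B.toDual hB).symm f'
    have hx0 : ∀ y, B x0 y = f' y := by
      intro y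
      have h1 : B.toDual hB x0 = f' := (B.toDual hB).apply_symm_apply f'
      rw [← h1, LinearMap.BilinForm.toDual_def]
    refine ⟨⟨∑ i ∈ Finset.range n, ρ (g ^ i) x0, mem_fx.2 ⟨Submodule.mem_top, sum_pow_fixed hg x0⟩⟩, ?_⟩
    ext w
    rw [hθ]
    have h2 := (mem_fx.1 w.2).2
    show B (∑ i ∈ Finset.range n, ρ (g ^ i) x0) (w : V) = f w
    rw [B_sum hi hn h2, hx0, ← hf']
    rfl
  have hker : finrank (ZMod 2) (LinearMap.ker θ) = finrank (ZMod 2) (fx ρ g (B.orthogonal W)) := by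
    refine LinearEquiv.finrank_eq (LinearEquiv.ofBijective
      ({ toFun := fun x => ⟨((x : T) : V), ?_⟩, map_add' := fun x y => rfl, map_smul' := fun c x => rfl } :
        LinearMap.ker θ →ₗ[ZMod 2] fx ρ g (B.orthogonal W)) ⟨?_, ?_⟩)
    · have h0 := (mem_fx.1 (x : T).2).2
      refine mem_fx.2 ⟨?_, h0⟩
      rw [LinearMap.BilinForm.mem_orthogonal_iff]
      intro w hw
      have h1 : θ (x : T) = 0 := x.2
      have h2 : (∑ i ∈ Finset.range n, ρ (g ^ i) w) ∈ A :=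
        mem_fx.2 ⟨Submodule.sum_mem _ fun i _ => hW _ _ hw, sum_pow_fixed hg w⟩
      have h3 := congrArg (fun f => f ⟨_, h2⟩) h1
      have h4 : B ((x : T) : V) (∑ i ∈ Finset.range n, ρ (g ^ i) w) = 0 := h3
      rw [hs, B_sum hi hn h0] at h4
      exact h4
    · intro x y e
      apply Subtype.ext
      apply Subtype.ext
      exact congrArg (fun z => ((z : fx ρ g (B.orthogonal W)) : V)) e
    · rintro ⟨x, hx⟩
      obtain ⟨hx1, hx2⟩ := mem_fx.1 hx
      rw [LinearMap.BilinForm.mem_orthogonal_iff] at hx1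
      refine ⟨⟨⟨x, mem_fx.2 ⟨Submodule.mem_top, hx2⟩⟩, ?_⟩, rfl⟩
      rw [LinearMap.mem_ker]
      ext w
      rw [hθ]
      show B x (w : V) = 0
      rw [hs]
      exact hx1 _ (mem_fx.1 w.2).1
  have h1 := LinearMap.finrank_range_add_finrank_ker θ
  rw [hsurj, finrank_top, Subspace.dual_finrank_eq, hker, add_comm] at h1
  exact h1

/-- the fixed spaces on a direct sum -/
theorem fx_sup {A C : Submodule (ZMod 2) V} (hA : Inv ρ A) (hC : Inv ρ C) (h : A ⊓ C = ⊥) (g : G3 F) :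
    finrank (ZMod 2) (fx ρ g (A ⊔ C)) = finrank (ZMod 2) (fx ρ g A) + finrank (ZMod 2) (fx ρ g C) := by
  have h1 : fx ρ g (A ⊔ C) = fx ρ g A ⊔ fx ρ g C := by
    apply le_antisymm
    · intro x hx
      obtain ⟨hx1, hx2⟩ := mem_fx.1 hx
      obtain ⟨a, ha, c, hc, rfl⟩ := Submodule.mem_sup.1 hx1
      have h2 : ρ g a - a = c - ρ g c := by
        rw [map_add] at hx2
        have : ρ g a - a - (c - ρ g c) = (ρ g a + ρ g c) - (a + c) := by abel
        rw [← sub_eq_zero, this, hx2, sub_self]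
      have h3 : ρ g a - a ∈ A ⊓ C := ⟨A.sub_mem (hA g a ha) ha, by rw [h2]; exact C.sub_mem hc (hC g c hc)⟩
      rw [h, Submodule.mem_bot] at h3
      rw [h3] at h2
      exact Submodule.add_mem_sup (mem_fx.2 ⟨ha, sub_eq_zero.1 h3⟩) (mem_fx.2 ⟨hc, (sub_eq_zero.1 h2.symm).symm⟩)
    · refine sup_le (fun x hx => ?_) (fun x hx => ?_)
      · exact mem_fx.2 ⟨Submodule.mem_sup_left (mem_fx.1 hx).1, (mem_fx.1 hx).2⟩
      · exact mem_fx.2 ⟨Submodule.mem_sup_right (mem_fx.1 hx).1, (mem_fx.1 hx).2⟩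
  have h2 : fx ρ g A ⊓ fx ρ g C = ⊥ := by
    rw [eq_bot_iff, ← h]
    exact inf_le_inf inf_le_left inf_le_left
  have h3 := Submodule.finrank_sup_add_finrank_inf_eq (fx ρ g A) (fx ρ g C)
  rw [h2, finrank_bot, add_zero] at h3
  rw [h1, h3]

theorem finrank_sup_of {A C : Submodule (ZMod 2) V} (h : A ⊓ C = ⊥) :
    finrank (ZMod 2) (A ⊔ C : Submodule (ZMod 2) V) = finrank (ZMod 2) A + finrank (ZMod 2) C := by
  have h3 := Submodule.finrank_sup_add_finrank_inf_eq A C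
  rw [h, finrank_bot, add_zero] at h3
  exact h3

theorem dims_sup {A C : Submodule (ZMod 2) V} (hA : Inv ρ A) (hC : Inv ρ C) (h : A ⊓ C = ⊥) {a a3 a5 a7 c c3 c5 c7 : ℕ}
    (h1 : Dims ρ A a a3 a5 a7) (h2 : Dims ρ C c c3 c5 c7) : Dims ρ (A ⊔ C) (a + c) (a3 + c3) (a5 + c5) (a7 + c7) := by
  refine ⟨by rw [finrank_sup_of h, h1.1, h2.1], fun g hg hc => ?_, fun g hg => ?_, fun g hg => ?_⟩
  · rw [fx_sup hA hC h, h1.2.1 g hg hc, h2.2.1 g hg hc]
  · rw [fx_sup hA hC h, h1.2.2.1 g hg, h2.2.2.1 g hg]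
  · rw [fx_sup hA hC h, h1.2.2.2 g hg, h2.2.2.2 g hg]

/-- **the dimensions of `W^⊥`** -/
theorem dims_orth (hB : B.Nondegenerate) (hs : ∀ x y, B x y = B y x) (hi : ∀ g x y, B (ρ g x) (ρ g y) = B x y)
    {W : Submodule (ZMod 2) V} (hW : Inv ρ W) {n n3 n5 n7 m m3 m5 m7 : ℕ}
    (hd : Dims ρ (⊤ : Submodule (ZMod 2) V) (n + m) (n3 + m3) (n5 + m5) (n7 + m7)) (h : Dims ρ W m m3 m5 m7) :
    Dims ρ (B.orthogonal W) n n3 n5 n7 := by
  refine ⟨?_, fun g hg hc => ?_, fun g hg => ?_, fun g hg => ?_⟩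
  · have h1 := LinearMap.BilinForm.finrank_orthogonal hB W
    have h2 : finrank (ZMod 2) (⊤ : Submodule (ZMod 2) V) = finrank (ZMod 2) V := finrank_top _ _
    rw [h1, ← h2, hd.1, h.1]
    omega
  · have h1 := fx_orth hB hs hi hW (g := g) (by decide : Odd 3) (orderOf_dvd_iff_pow_eq_one.1 hg.dvd)
    rw [hd.2.1 g hg hc, h.2.1 g hg hc] at h1
    omega
  · have h1 := fx_orth hB hs hi hW (g := g) (by decide : Odd 5) (orderOf_dvd_iff_pow_eq_one.1 hg.dvd)
    rw [hd.2.2.1 g hg, h.2.2.1 g hg] at h1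
    omega
  · have h1 := fx_orth hB hs hi hW (g := g) (by decide : Odd 7) (orderOf_dvd_iff_pow_eq_one.1 hg.dvd)
    rw [hd.2.2.2 g hg, h.2.2.2 g hg] at h1
    omega

end orth

/-! ### subquotients -/

section sq

/-- the representation on `X / A` (as a type) -/
def sq (ρ : Representation (ZMod 2) (G3 F) V) (A X : Submodule (ZMod 2) V) (hA : Inv ρ A) (hX : Inv ρ X) :
    Representation (ZMod 2) (G3 F) ↥(X.map A.mkQ) :=
  subRep (qr ρ A hA) (X.map A.mkQ) (inv_quot hA hX)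

/-- the class of an element of `X` -/
def cl {A X : Submodule (ZMod 2) V} {x : V} (hx : x ∈ X) : ↥(X.map A.mkQ) := ⟨A.mkQ x, ⟨x, hx, rfl⟩⟩

theorem sq_cl {A X : Submodule (ZMod 2) V} (hA : Inv ρ A) (hX : Inv ρ X) (g : G3 F) {x : V} (hx : x ∈ X) :
    sq ρ A X hA hX g (cl hx) = cl (hX g x hx) := rfl

theorem cl_surj {A X : Submodule (ZMod 2) V} (y : ↥(X.map A.mkQ)) : ∃ x, ∃ hx : x ∈ X, cl hx = y := by
  obtain ⟨y, x, hx, rfl⟩ := y
  exact ⟨x, hx, rfl⟩

theorem cl_eq {A X : Submodule (ZMod 2) V} {x y : V} (hx : x ∈ X) (hy : y ∈ X) :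
    (cl hx : ↥(X.map A.mkQ)) = cl hy ↔ x - y ∈ A := by
  constructor
  · intro h
    exact (Submodule.Quotient.eq A).1 (congrArg Subtype.val h)
  · intro h
    exact Subtype.ext ((Submodule.Quotient.eq A).2 h)

theorem cl_eq_zero {A X : Submodule (ZMod 2) V} {x : V} (hx : x ∈ X) :
    (cl hx : ↥(X.map A.mkQ)) = 0 ↔ x ∈ A := by
  have h := cl_eq (A := A) hx X.zero_mem
  have h0 : (cl X.zero_mem : ↥(X.map A.mkQ)) = 0 := Subtype.ext (map_zero _)
  rw [h0, sub_zero] at h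
  exact h

theorem cl_sub {A X : Submodule (ZMod 2) V} {x y : V} (hx : x ∈ X) (hy : y ∈ X) :
    (cl (X.sub_mem hx hy) : ↥(X.map A.mkQ)) = cl hx - cl hy := Subtype.ext (map_sub _ _ _)

theorem ct_sq (hc : CT ρ) {A X : Submodule (ZMod 2) V} (hA : Inv ρ A) (hX : Inv ρ X) : CT (sq ρ A X hA hX) := by
  intro c hc' v
  obtain ⟨x, hx, rfl⟩ := cl_surj v
  rw [sq_cl]
  exact (cl_eq _ _).2 (by rw [hc c hc', sub_self]; exact A.zero_mem)

/-- fixed vectors of a subrepresentation -/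
theorem fx_sub {V' : Type} [AddCommGroup V'] [Module (ZMod 2) V'] (ρ' : Representation (ZMod 2) (G3 F) V')
    (Y : Submodule (ZMod 2) V') (hY : ∀ g, ∀ x ∈ Y, ρ' g x ∈ Y) (g : G3 F) :
    finrank (ZMod 2) (fx (subRep ρ' Y hY) g ⊤) = finrank (ZMod 2) (fx ρ' g Y) := by
  refine LinearEquiv.finrank_eq (LinearEquiv.ofBijective
    ({ toFun := fun x => ⟨((x : Y) : V'), ?_⟩, map_add' := fun x y => rfl, map_smul' := fun c x => rfl } :
      fx (subRep ρ' Y hY) g ⊤ →ₗ[ZMod 2] fx ρ' g Y) ⟨?_, ?_⟩)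
  · obtain ⟨h1, h2⟩ := Submodule.mem_inf.1 x.2
    refine Submodule.mem_inf.2 ⟨(x : Y).2, ?_⟩
    rw [LinearMap.mem_ker, LinearMap.sub_apply, LinearMap.id_apply, sub_eq_zero] at h2 ⊢
    exact congrArg Subtype.val h2
  · intro x y e
    apply Subtype.ext
    apply Subtype.ext
    exact congrArg (fun z => ((z : fx ρ' g Y) : V')) e
  · rintro ⟨x, hx⟩
    obtain ⟨h1, h2⟩ := Submodule.mem_inf.1 hx
    refine ⟨⟨⟨x, h1⟩, Submodule.mem_inf.2 ⟨Submodule.mem_top, ?_⟩⟩, rfl⟩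
    rw [LinearMap.mem_ker, LinearMap.sub_apply, LinearMap.id_apply, sub_eq_zero] at h2 ⊢
    exact Subtype.ext h2

/-- **the dimensions of a subquotient** -/
theorem dims_sq {A X : Submodule (ZMod 2) V} (hA : Inv ρ A) (hX : Inv ρ X) (h : A ≤ X) {n n3 n5 n7 m m3 m5 m7 : ℕ}
    (h1 : Dims ρ A m m3 m5 m7) (h2 : Dims ρ X (n + m) (n3 + m3) (n5 + m5) (n7 + m7)) :
    Dims (sq ρ A X hA hX) ⊤ n n3 n5 n7 := by
  refine ⟨?_, fun g hg hc => ?_, fun g hg => ?_, fun g hg => ?_⟩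
  · have h3 := finrank_map_mkQ h
    rw [h1.1, h2.1] at h3
    rw [finrank_top]
    omega
  · have h3 := finrank_fx hA hX h (by decide : Odd 3) (orderOf_dvd_iff_pow_eq_one.1 hg.dvd)
    rw [h1.2.1 g hg hc, h2.2.1 g hg hc] at h3
    have h4 : finrank (ZMod 2) (fx (sq ρ A X hA hX) g ⊤) = finrank (ZMod 2) (fx (qr ρ A hA) g (X.map A.mkQ)) :=
      fx_sub (qr ρ A hA) (X.map A.mkQ) (inv_quot hA hX) g
    omega
  · have h3 := finrank_fx hA hX h (by decide : Odd 5) (orderOf_dvd_iff_pow_eq_one.1 hg.dvd)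
    rw [h1.2.2.1 g hg, h2.2.2.1 g hg] at h3
    have h4 : finrank (ZMod 2) (fx (sq ρ A X hA hX) g ⊤) = finrank (ZMod 2) (fx (qr ρ A hA) g (X.map A.mkQ)) :=
      fx_sub (qr ρ A hA) (X.map A.mkQ) (inv_quot hA hX) g
    omega
  · have h3 := finrank_fx hA hX h (by decide : Odd 7) (orderOf_dvd_iff_pow_eq_one.1 hg.dvd)
    rw [h1.2.2.2 g hg, h2.2.2.2 g hg] at h3
    have h4 : finrank (ZMod 2) (fx (sq ρ A X hA hX) g ⊤) = finrank (ZMod 2) (fx (qr ρ A hA) g (X.map A.mkQ)) :=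
      fx_sub (qr ρ A hA) (X.map A.mkQ) (inv_quot hA hX) g
    omega

/-- the elements of `X` fixed modulo `A` -/
def DD (ρ : Representation (ZMod 2) (G3 F) V) (A X : Submodule (ZMod 2) V) : Submodule (ZMod 2) V where
  carrier := {x | x ∈ X ∧ ∀ g, ρ g x - x ∈ A}
  add_mem' := by
    rintro a b ⟨ha, ha'⟩ ⟨hb, hb'⟩
    refine ⟨X.add_mem ha hb, fun g => ?_⟩
    rw [map_add, add_sub_add_comm]
    exact A.add_mem (ha' g) (hb' g)
  zero_mem' := ⟨X.zero_mem, fun g => by rw [map_zero, sub_zero]; exact A.zero_mem⟩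
  smul_mem' := by
    rintro c x ⟨hx, hx'⟩
    refine ⟨X.smul_mem c hx, fun g => ?_⟩
    rw [map_smul, ← smul_sub]
    exact A.smul_mem c (hx' g)

theorem mem_DD {A X : Submodule (ZMod 2) V} {x : V} : x ∈ DD ρ A X ↔ x ∈ X ∧ ∀ g, ρ g x - x ∈ A := Iff.rfl

theorem le_DD {A X : Submodule (ZMod 2) V} (hA : Inv ρ A) (h : A ≤ X) : A ≤ DD ρ A X :=
  fun x hx => ⟨h hx, fun g => A.sub_mem (hA g x hx) hx⟩

theorem DD_le {A X : Submodule (ZMod 2) V} : DD ρ A X ≤ X := fun _ hx => hx.1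

theorem inv_DD {A X : Submodule (ZMod 2) V} (hA : Inv ρ A) (h : A ≤ X) : Inv ρ (DD ρ A X) := by
  intro g x hx
  have h1 : ρ g x = (ρ g x - x) + x := by abel
  rw [h1]
  exact (DD ρ A X).add_mem (le_DD hA h (hx.2 g)) hx

theorem cl_mem_fixAll {A X : Submodule (ZMod 2) V} (hA : Inv ρ A) (hX : Inv ρ X) {x : V} (hx : x ∈ X) :
    (cl hx : ↥(X.map A.mkQ)) ∈ fixAll (sq ρ A X hA hX) ↔ x ∈ DD ρ A X := by
  constructor
  · intro h
    refine ⟨hx, fun g => ?_⟩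
    have h1 : sq ρ A X hA hX g (cl hx) = cl hx := h g
    rw [sq_cl] at h1
    exact (cl_eq _ _).1 h1
  · intro h g
    show sq ρ A X hA hX g (cl hx) = cl hx
    rw [sq_cl]
    exact (cl_eq _ _).2 (h.2 g)

theorem finrank_map_DD {A X : Submodule (ZMod 2) V} (hA : Inv ρ A) (hX : Inv ρ X) :
    finrank (ZMod 2) ((DD ρ A X).map A.mkQ) = finrank (ZMod 2) (fixAll (sq ρ A X hA hX)) := by
  symm
  refine LinearEquiv.finrank_eq (LinearEquiv.ofBijective
    ({ toFun := fun y => ⟨((y : ↥(X.map A.mkQ)) : V ⧸ A), ?_⟩, map_add' := fun x y => rfl,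
       map_smul' := fun c x => rfl } : fixAll (sq ρ A X hA hX) →ₗ[ZMod 2] ((DD ρ A X).map A.mkQ)) ⟨?_, ?_⟩)
  · obtain ⟨y, hy⟩ := y
    obtain ⟨x, hx, rfl⟩ := cl_surj y
    exact ⟨x, (cl_mem_fixAll hA hX hx).1 hy, rfl⟩
  · intro x y e
    apply Subtype.ext
    apply Subtype.ext
    exact congrArg (fun z => ((z : ((DD ρ A X).map A.mkQ)) : V ⧸ A)) e
  · rintro ⟨y, x, hx, rfl⟩
    exact ⟨⟨cl hx.1, (cl_mem_fixAll hA hX hx.1).2 hx⟩, rfl⟩

/-- **the dimension of the elements fixed modulo `A`** -/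
theorem finrank_DD {A X : Submodule (ZMod 2) V} (hA : Inv ρ A) (hX : Inv ρ X) (h : A ≤ X) :
    finrank (ZMod 2) (DD ρ A X) = finrank (ZMod 2) A + finrank (ZMod 2) (fixAll (sq ρ A X hA hX)) := by
  rw [finrank_map_mkQ (le_DD hA h), finrank_map_DD hA hX]

/-- **the fixed space of a subgroup of odd order on them** -/
theorem finrank_VE_DD [Finite (G3 F)] {A X : Submodule (ZMod 2) V} (hA : Inv ρ A) (hX : Inv ρ X) (h : A ≤ X)
    {C : Subgroup (G3 F)} (hC : Odd (Nat.card C)) :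
    finrank (ZMod 2) (VE ρ C ⊓ DD ρ A X : Submodule (ZMod 2) V) =
      finrank (ZMod 2) (VE ρ C ⊓ A : Submodule (ZMod 2) V) + finrank (ZMod 2) (fixAll (sq ρ A X hA hX)) := by
  have h1 := finrank_map_add A.mkQ (VE ρ C ⊓ DD ρ A X)
  have h2 : (VE ρ C ⊓ DD ρ A X) ⊓ LinearMap.ker A.mkQ = VE ρ C ⊓ A := by
    rw [Submodule.ker_mkQ, inf_assoc, inf_eq_right.2 (le_DD hA h)]
  have h3 : (VE ρ C ⊓ DD ρ A X).map A.mkQ = (DD ρ A X).map A.mkQ := by
    apply le_antisymm (Submodule.map_mono inf_le_right)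
    rintro _ ⟨x, hx, rfl⟩
    have h4 := av_sub_mem ρ hC A (v := x) (fun g _ => hx.2 g)
    have h5 : av ρ C x ∈ DD ρ A X := by
      have : av ρ C x = (av ρ C x - x) + x := by abel
      rw [this]
      exact (DD ρ A X).add_mem (le_DD hA h h4) hx
    exact ⟨av ρ C x, ⟨av_mem ρ C x, h5⟩, (Submodule.Quotient.eq A).2 h4⟩
  rw [h2, h3, finrank_map_DD hA hX] at h1
  omega

end sq

end Cfsg.Agent.H360.L34
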